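import Groth.Agent.L19.YBlowUp
import Groth.Agent.L19.IdealInvertible
import Groth.Agent.L21.Mero.Zero
import Groth.Agent.L13.ModPair.Colon

/-!
# Sections divisible by an effective Cartier ideal
-/

set_option autoImplicit false
set_option linter.style.haveILetI false
set_option backward.isDefEq.respectTransparency false
set_option backward.isDefEq.respectTransparency.types false

universe u

open CategoryTheory AlgebraicGeometry TopologicalSpace Opposite
open Groth.L18.Frame (rs ro rs_rs rs_self rs_smul ro_ro IsFrame)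
open Groth.L18.GenLoc (secOf tens tens_rs tens_smul_left tens_smul_right isFrame_tens tensHom secOf_homOfSection)

noncomputable section

namespace Groth.L13.YBlow

variable {X : Scheme.{u}} {L M : X.Modules}

theorem zeroScheme_tensHom (hL : PicF.IsInvertible L) (hM : PicF.IsInvertible M)
    (s : Coh.structureModule X ⟶ L) (t : Coh.structureModule X ⟶ M) :
    PicF2.zeroScheme (CohB1.tensorMod L M) (tensHom s t) =
      PicF2.zeroScheme L s * PicF2.zeroScheme M t := by
  have hcov : ∀ x : X, ∃ (W : X.Opens) (e : Γ(L, W)) (e' : Γ(M, W)),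
      IsAffineOpen W ∧ x ∈ W ∧ IsFrame L W e ∧ IsFrame M W e' := by
    intro x
    obtain ⟨W₁, d, h₁, hd⟩ := Groth.L18.Frame.exists_frame hL x
    obtain ⟨W₂, d', h₂, hd'⟩ := Groth.L18.Frame.exists_frame hM x
    obtain ⟨W, hW, hxW, hWle⟩ := exists_isAffineOpen_mem_and_subset (x := x) (U := W₁ ⊓ W₂) ⟨h₁, h₂⟩
    exact ⟨W, rs L (fun y hy => (hWle hy).1) d, rs M (fun y hy => (hWle hy).2) d', hW, hxW, hd.mono _, hd'.mono _⟩
  choose W e e' hW hxW he he' using hcov
  refine Scheme.IdealSheafData.ext_of_iSup_eq_top (fun i => ⟨W i, hW i⟩)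
    (eq_top_iff.2 fun x _ => Opens.mem_iSup.2 ⟨x, hxW x⟩) fun i => ?_
  obtain ⟨a, ha⟩ := (he i).exists_coeff le_rfl (rs L le_top (secOf s))
  obtain ⟨b, hb⟩ := (he' i).exists_coeff le_rfl (rs M le_top (secOf t))
  rw [rs_self] at ha hb
  have hab : (a * b) • tens L M (W i) (e i) (e' i) =
      rs (CohB1.tensorMod L M) le_top (secOf (tensHom s t)) := by
    rw [tensHom, secOf_homOfSection, tens_rs, ← ha, ← hb, tens_smul_left, tens_smul_right, smul_smul]
  rw [Groth.L21.Mero.zeroScheme_ideal_frame (Groth.L18.GenLoc.isInvertible_tensor hL hM) _ ⟨W i, hW i⟩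
      (isFrame_tens (he i) (he' i)) hab, Scheme.IdealSheafData.ideal_mul, Pi.mul_apply,
    Groth.L21.Mero.zeroScheme_ideal_frame hL s ⟨W i, hW i⟩ (he i) ha,
    Groth.L21.Mero.zeroScheme_ideal_frame hM t ⟨W i, hW i⟩ (he' i) hb, Ideal.span_singleton_mul_span_singleton]

theorem zeroScheme_fg (hL : PicF.IsInvertible L) (s : Coh.structureModule X ⟶ L) (V : X.affineOpens) :
    ((PicF2.zeroScheme L s).ideal V).FG := by
  haveI := Groth.L21.Extend.isQCoh_of_isInvertible hL
  refine Groth.L13.MP.LocFG.fg (fun x => ?_) V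
  obtain ⟨W, e, hW, hxW, he⟩ := Groth.L18.GenLoc.exists_affine_frame hL x
  obtain ⟨a, ha⟩ := he.exists_coeff le_rfl (rs L le_top (secOf s))
  rw [rs_self] at ha
  refine ⟨⟨W, hW⟩, hxW, ?_⟩
  rw [Groth.L21.Mero.zeroScheme_ideal_frame hL s ⟨W, hW⟩ he ha]
  exact ⟨{a}, by simp⟩

/-- Powers of a section, with control on their zero schemes. -/
theorem exists_powSec (hL : PicF.IsInvertible L) (s : Coh.structureModule X ⟶ L) : ∀ n : ℕ,
    ∃ t : Coh.structureModule X ⟶ CohB1.tensorPow L n, CohB1.genLocus L s ≤ CohB1.genLocus _ t ∧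
      (0 < n → CohB1.genLocus _ t ≤ CohB1.genLocus L s) ∧
      PicF2.zeroScheme _ t ≤ PicF2.zeroScheme L s ^ n
  | 0 => ⟨𝟙 _, le_top.trans ((Groth.L19.YBlowUp.genLocus_eq_top_iff (𝟙 (Coh.structureModule X))).2 inferInstance).ge,
      fun h => absurd h (lt_irrefl 0), by rw [pow_zero, Scheme.IdealSheafData.one_eq_top]; exact le_top⟩
  | n + 1 => by
    obtain ⟨t, ht, -, hz⟩ := exists_powSec hL s n
    have hP := Groth.L18.Ample.isInvertible_tensorPow hL n
    refine ⟨tensHom t s, ?_, fun _ => ?_, ?_⟩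
    · show CohB1.genLocus L s ≤ CohB1.genLocus (CohB1.tensorMod (CohB1.tensorPow L n) L) _
      rw [Groth.L18.GenLoc.genLocus_tensHom hP hL]
      exact le_inf ht le_rfl
    · show CohB1.genLocus (CohB1.tensorMod (CohB1.tensorPow L n) L) _ ≤ _
      rw [Groth.L18.GenLoc.genLocus_tensHom hP hL]
      exact inf_le_right
    · show PicF2.zeroScheme (CohB1.tensorMod (CohB1.tensorPow L n) L) _ ≤ _
      rw [zeroScheme_tensHom hP hL, pow_succ]
      exact mul_le_mul' hz le_rfl

open Groth.Agent.L19.IdealInvertible (io io_rs io_smul io_inj)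

/-- A section whose zero scheme lies in an effective Cartier ideal is divisible by it. -/
theorem exists_lift_section {E : X.IdealSheafData} (hE : BlowUp.IsEffCartierIdeal E) {N : X.Modules}
    (hN : PicF.IsInvertible N) (τ : Coh.structureModule X ⟶ N) (hle : PicF2.zeroScheme N τ ≤ E) :
    ∃ σ : Coh.structureModule X ⟶ CohB1.tensorMod (ClSub.idealMod E) N,
      CohB1.genLocus N τ ≤ CohB1.genLocus _ σ := by
  have hI := (Groth.Agent.L19.IdealInvertible.isEffCartier_iff E).2 hE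
  have hcov : ∀ x : X, ∃ (W : X.Opens) (m₀ : Γ(ClSub.idealMod E, W)) (e : Γ(N, W)),
      IsAffineOpen W ∧ x ∈ W ∧ IsFrame _ W m₀ ∧ IsFrame N W e := by
    intro x
    obtain ⟨W₁, d, h₁, hd⟩ := Groth.L18.Frame.exists_frame hI x
    obtain ⟨W₂, d', h₂, hd'⟩ := Groth.L18.Frame.exists_frame hN x
    obtain ⟨W, hW, hxW, hWle⟩ := exists_isAffineOpen_mem_and_subset (x := x) (U := W₁ ⊓ W₂) ⟨h₁, h₂⟩
    exact ⟨W, rs _ (fun y hy => (hWle hy).1) d, rs N (fun y hy => (hWle hy).2) d', hW, hxW, hd.mono _, hd'.mono _⟩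
  choose W m₀ e hW hxW hm₀ he using hcov
  choose a ha using fun i => (he i).exists_coeff le_rfl (rs N le_top (secOf τ))
  simp only [rs_self] at ha
  have hmem : ∀ i, ∃ m : Γ(ClSub.idealMod E, W i), io E (W i) m = a i := fun i => by
    refine (Groth.L18.IdealModule.mem_ideal_iff E (hW i) (a i)).1 (hle ⟨W i, hW i⟩ ?_)
    rw [Groth.L21.Mero.zeroScheme_ideal_frame hN τ ⟨W i, hW i⟩ (he i) (ha i)]
    exact Ideal.subset_span rfl
  choose m hm using hmem
  let T := CohB1.tensorMod (ClSub.idealMod E) N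
  let OT : TopCat.Sheaf Ab.{u} X.toTopCat := ⟨T.presheaf, T.isSheaf⟩
  have hio : ∀ {V V' : X.Opens} (h : V ≤ V') (x : Γ(ClSub.idealMod E, V')),
      io E V (rs (ClSub.idealMod E) h x) = ro h (io E V' x) := fun h x => io_rs E h x
  obtain ⟨σ, hσ, -⟩ := OT.existsUnique_gluing' W ⊤ (fun i => homOfLE le_top)
    (fun x _ => Opens.mem_iSup.2 ⟨x, hxW x⟩) (fun i => tens _ N (W i) (m i) (e i)) fun i j => by
    show rs T (inf_le_left : W i ⊓ W j ≤ W i) (tens _ N (W i) (m i) (e i)) =
      rs T (inf_le_right : W i ⊓ W j ≤ W j) (tens _ N (W j) (m j) (e j))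
    obtain ⟨c, hc⟩ := ((he i).mono (inf_le_left : W i ⊓ W j ≤ W i)).exists_coeff le_rfl (rs N inf_le_right (e j))
    rw [rs_self] at hc
    have hai : rs N (inf_le_left : W i ⊓ W j ≤ W i) (rs N le_top (secOf τ)) =
        ro (inf_le_left : W i ⊓ W j ≤ W i) (a i) • rs N inf_le_left (e i) := by rw [← ha i, rs_smul]
    have haj : rs N (inf_le_right : W i ⊓ W j ≤ W j) (rs N le_top (secOf τ)) =
        ro (inf_le_right : W i ⊓ W j ≤ W j) (a j) • rs N inf_le_right (e j) := by rw [← ha j, rs_smul]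
    rw [rs_rs] at hai haj
    have hac : ro (inf_le_left : W i ⊓ W j ≤ W i) (a i) = ro inf_le_right (a j) * c := by
      refine ((he i).mono (inf_le_left : W i ⊓ W j ≤ W i)).inj le_rfl ?_
      rw [rs_self, mul_smul, hc, ← hai, ← haj]
    have hmc : rs (ClSub.idealMod E) (inf_le_left : W i ⊓ W j ≤ W i) (m i) =
        c • rs (ClSub.idealMod E) inf_le_right (m j) := by
      apply io_inj E
      rw [io_smul, hio, hio, hm, hm, hac, mul_comm]
    rw [tens_rs, tens_rs, hmc, tens_smul_left, ← hc, tens_smul_right]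
  refine ⟨Groth.L16.homOfSection _ σ, fun x hx => ?_⟩
  obtain ⟨α, hα⟩ := (hm₀ x).exists_coeff le_rfl (m x)
  rw [rs_self] at hα
  have hσ' : α • tens (ClSub.idealMod E) N (W x) (m₀ x) (e x) =
      rs T le_top (secOf (Groth.L16.homOfSection T σ)) := by
    rw [secOf_homOfSection, ← tens_smul_left, hα]
    exact (hσ x).symm
  have hxa : x ∈ X.basicOpen (a x) := by
    rw [← Groth.L18.GenLoc.genLocus_inf_eq τ (he x) (ha x)]
    exact ⟨hx, hxW x⟩
  have hxα : x ∈ X.basicOpen α := by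
    rw [← hm x, ← hα, io_smul, X.basicOpen_mul] at hxa
    exact hxa.1
  rw [← Groth.L18.GenLoc.genLocus_inf_eq _ (isFrame_tens (hm₀ x) (he x)) hσ'] at hxα
  exact hxα.1

end Groth.L13.YBlow
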