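import Groth.Agent.L18.PBundle.FTSub
import Groth.Agent.L18.PBundle.Embed
import Groth.Agent.L18.PBundle.Ample
import Groth.Agent.L27.Quot.ProjProper
import Groth.Agent.L13.Nagata.Image
import Groth.Agent.L18.ProjAlg.ClosedSubscheme
import Groth.Agent.L19.YBlowUp

/-!
# Projective completions of affine morphisms of finite type, with a section cutting out the boundary
-/

set_option autoImplicit false
set_option linter.style.haveILetI false
set_option backward.isDefEq.respectTransparency false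
set_option backward.isDefEq.respectTransparency.types false

universe u

open CategoryTheory CategoryTheory.Limits AlgebraicGeometry TopologicalSpace Opposite
open Groth.L18.PBundle
open Groth.L18.Frame (rs ro rs_rs rs_self rs_smul ro_ro IsFrame)
open Groth.L18.GenLoc (secOf secOf_homOfSection)
open Groth.L18.Ample (hom_app_rs)

noncomputable section

namespace Groth.L13.YBlow

/-- An affine morphism of finite type has a projective completion whose boundary is the zero locus of a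
section of a relatively ample invertible module. -/
theorem exists_completion {W X : Scheme.{u}} [CompactSpace X] [QuasiSeparatedSpace X] (g : W ⟶ X) [IsAffineHom g]
    [LocallyOfFiniteType g] :
    ∃ (Y : Scheme.{u}) (q : Y ⟶ X) (M : Y.Modules) (ε : Coh.structureModule Y ⟶ M) (v : W ⟶ Y) (_ : IsOpenImmersion v),
      IsProper q ∧ RelProj.IsProjective q ∧ RelAmple.IsRelAmple q M ∧
      IsSchemeTheoreticallyDominant v ∧ v.opensRange = CohB1.genLocus M ε ∧ v ≫ q = g := by
  classical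
  haveI : CompactSpace W := QuasiCompact.compactSpace_of_compactSpace g
  let L : W.Modules := Coh.structureModule W
  have hL : PicF.IsInvertible L := Groth.L18.Ample.isInvertible_structureModule W
  haveI : Coh.IsQCoh L := Groth.L21.Extend.isQCoh_of_isInvertible hL
  haveI : Coh.IsQCoh ((Scheme.Modules.pushforward g).obj L) := Groth.L16.QcqsPush.isQCoh_push L g
  obtain ⟨t, ht⟩ := isCompact_univ.elim_finite_subcover (fun V : X.affineOpens => (V.1 : Set X))
    (fun V => V.1.2) (fun x _ => by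
      obtain ⟨V, hV, hxV, -⟩ := exists_isAffineOpen_mem_and_subset (x := x) (U := ⊤) trivial
      exact Set.mem_iUnion.2 ⟨⟨V, hV⟩, hxV⟩)
  have hgen : ∀ V : t, ∃ (n : ℕ) (c : Fin n → Γ(W, g ⁻¹ᵁ V.1.1)), ∀ A : Subring Γ(W, g ⁻¹ᵁ V.1.1),
      (∀ a, g.appLE V.1.1 (g ⁻¹ᵁ V.1.1) le_rfl a ∈ A) → (∀ k, c k ∈ A) → A = ⊤ := by
    intro V
    have hft := g.finiteType_appLE V.1.2 (V.1.2.preimage g) (le_refl _)
    letI := (g.appLE V.1.1 (g ⁻¹ᵁ V.1.1) le_rfl).hom.toAlgebra
    obtain ⟨s, hs⟩ := Algebra.FiniteType.out (self := hft)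
    refine ⟨s.card, fun k => (s.equivFin.symm k).1, fun A hA hc => eq_top_iff.2 fun z _ => ?_⟩
    let A' : Subalgebra Γ(X, V.1.1) Γ(W, g ⁻¹ᵁ V.1.1) := { A with algebraMap_mem' := fun a => hA a }
    have hle : Algebra.adjoin Γ(X, V.1.1) (s : Set Γ(W, g ⁻¹ᵁ V.1.1)) ≤ A' :=
      Algebra.adjoin_le fun x hx => by
        have := hc (s.equivFin ⟨x, hx⟩)
        simp only [Equiv.symm_apply_apply] at this
        exact this
    exact hle (hs.ge Algebra.mem_top)
  choose n c hc using hgen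
  let Vs : Option t → X.Opens := fun o => o.elim ⊤ fun V => V.1.1
  let I : Option t → Type u := fun o => o.elim PUnit fun V => ULift (Fin (n V))
  haveI : ∀ o, Finite (I o) := fun o => by cases o <;> simp only [I, Option.elim] <;> infer_instance
  let tt : ∀ o, I o → Γ((Scheme.Modules.pushforward g).obj L, Vs o) := fun o => match o with
    | none => fun _ => (show Γ((Scheme.Modules.pushforward g).obj L, ⊤) from (1 : Γ(W, g ⁻¹ᵁ ⊤)))
    | some V => fun k => (show Γ((Scheme.Modules.pushforward g).obj L, V.1.1) from c V k.down)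
  obtain ⟨F, ι, -, hF, hmem⟩ := Groth.L17.Approx.exists_submodule_finset ((Scheme.Modules.pushforward g).obj L)
    Vs (fun o => by
      cases o with
      | none => simp only [Vs, Option.elim, Opens.coe_top]; exact isCompact_univ
      | some V => exact V.1.2.isCompact)
    I tt Finset.univ
  haveI := hF.1
  obtain ⟨e1, he1⟩ : ∃ e : Γ(F, ⊤), ι.app ⊤ e = (show Γ((Scheme.Modules.pushforward g).obj L, ⊤) from (1 : Γ(W, g ⁻¹ᵁ ⊤))) :=
    hmem none (Finset.mem_univ _) PUnit.unit
  have hsec : ∀ (V : X.Opens), ι.app V (rs F le_top e1) = (1 : Γ(W, g ⁻¹ᵁ V)) := by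
    intro V
    rw [hom_app_rs, he1]
    exact map_one (W.presheaf.map (homOfLE (show g ⁻¹ᵁ V ≤ g ⁻¹ᵁ ⊤ from fun _ h => trivial)).op).hom
  have hone : ∀ (T : W.Opens) (V : X.Opens) (hT : T ≤ g ⁻¹ᵁ V),
      rs L hT (ι.app V (rs F le_top e1)) = (1 : Γ(W, T)) := by
    intro T V hT
    rw [hsec]
    exact map_one (W.presheaf.map (homOfLE hT).op).hom
  have hfr1 : ∀ T : W.Opens, IsFrame L T (1 : Γ(W, T)) := fun T V h => by
    have h1 : rs L h (1 : Γ(W, T)) = (1 : Γ(W, V)) := map_one (W.presheaf.map (homOfLE h).op).hom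
    have h2 : (fun a : Γ(W, V) => a • rs L h (1 : Γ(W, T))) = id := funext fun a => by
      rw [h1]; exact mul_one a
    rw [h2]; exact Function.bijective_id
  have hcov : ∀ x : W, ∃ V : t, g x ∈ V.1.1 := fun x => by
    obtain ⟨V, hV, hxV⟩ := Set.mem_iUnion₂.1 (ht (Set.mem_univ (g x)))
    exact ⟨⟨V, hV⟩, hxV⟩
  have hloc : HasLocalGen g L ι := by
    intro x
    obtain ⟨V, hxV⟩ := hcov x
    have hexk : ∀ k : I (some V), ∃ e : Γ(F, V.1.1),
        ι.app V.1.1 e = (show Γ((Scheme.Modules.pushforward g).obj L, V.1.1) from c V k.down) :=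
      fun k => hmem (some V) (Finset.mem_univ _) k
    choose ek hek using hexk
    refine ⟨V.1.1, V.1.2, g ⁻¹ᵁ V.1.1, le_rfl, I (some V), rs F le_top e1, ek, 1, ?_, fun U hU _ => hU, ?_, ?_, ?_⟩
    · rw [hone]; exact hfr1 _
    · rw [W.basicOpen_of_isUnit isUnit_one]; exact hxV
    · rw [W.basicOpen_of_isUnit isUnit_one]; exact V.1.2.preimage g
    · intro A hA hA'
      have hAtop : A = ⊤ := by
        refine hc V A hA fun k => hA' ⟨k⟩ (c V k) ?_
        rw [hone, rs_self, hek]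
        exact mul_one (c V k)
      refine ⟨hAtop ▸ Subring.mem_top _, fun A' hres _ => eq_top_iff.2 fun z _ => ?_⟩
      have e : g ⁻¹ᵁ V.1.1 ≤ W.basicOpen (1 : Γ(W, g ⁻¹ᵁ V.1.1)) :=
        (W.basicOpen_of_isUnit isUnit_one).ge
      have := hres (ro e z) (hAtop ▸ Subring.mem_top _)
      rwa [ro_ro, Groth.L18.Frame.ro_self] at this
  obtain ⟨P, p, chart, hP⟩ := Groth.L18.RP.exists_isRelProj (Groth.L18.SymSheaf.symGr F)
  have hj := Groth.L18.SymSheaf.isGrSymAlg F
  obtain ⟨O1, lam, hO1⟩ := exists_twist hP 1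
  obtain ⟨φ, hφ⟩ := exists_taut hj hP hF.1 hO1
  obtain ⟨r, hr, hs⟩ := exists_morphism hj hF.1 hP hO1 hφ hL _ (epi_of_localGen ι hloc)
  rw [adjSec, Equiv.apply_symm_apply] at hs
  haveI := isImmersion_of_localGen hF.1 hloc hj hO1 hφ hs
  have hgd := isGenDegOne_of_isGrSymAlg hF.1 hj
  have hproj : RelProj.IsProjective p :=
    ⟨_, P, p, chart, Iso.refl _, hgd, isFTDeg_one_of_isGrSymAlg hF hj, hP, Category.id_comp p⟩
  haveI := Groth.L27.ProjProper.isProper_of_isProjective hproj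
  haveI : QuasiCompact (r ≫ p) := by rw [hr]; infer_instance
  haveI : QuasiCompact r := QuasiCompact.of_comp r p
  -- the section given by the unit
  let σ : Coh.structureModule P ⟶ O1 :=
    Groth.L16.homOfSection O1 (rs O1 (show (⊤ : P.Opens) ≤ p ⁻¹ᵁ ⊤ from fun _ _ => trivial) (φ.app ⊤ e1))
  have hσ : ∀ (V : X.Opens), rs O1 (show p ⁻¹ᵁ V ≤ ⊤ from le_top) (secOf σ) = φ.app V (rs F le_top e1) := by
    intro V
    rw [secOf_homOfSection, rs_rs, hom_app_rs]; rfl
  have hdom : ∀ (V : X.Opens) (hV : IsAffineOpen V),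
      CohB1.genLocus O1 σ ⊓ p ⁻¹ᵁ V = dom chart (Groth.L18.SymSheaf.j F) V hV (rs F le_top e1) := by
    intro V hV
    have hfd := isFrame_dom hj hO1 hφ hV (rs F le_top e1)
    refine le_antisymm (fun z hz => ?_) (le_inf ?_ (dom_le chart _ V hV _))
    · obtain ⟨e₂, hz₂⟩ := exists_mem_dom (chart := chart) hj hV hF.1 (z := z) hz.2
      have hf₂ := isFrame_dom hj hO1 hφ hV e₂
      obtain ⟨a, ha⟩ := hf₂.exists_coeff le_rfl
        (rs O1 (dom_le chart _ V hV e₂) (φ.app V (rs F le_top e1)))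
      rw [rs_self] at ha
      refine basicOpen_le_dom hj hO1 hφ hV (rs F le_top e1) e₂ a ha ?_
      rw [← Groth.L18.GenLoc.genLocus_inf_eq σ hf₂ (a := a) (by rw [ha, ← hσ V, rs_rs])]
      exact ⟨hz.1, hz₂⟩
    · refine Groth.L18.GenLoc.le_genLocus σ ?_
      rw [← rs_rs O1 (show p ⁻¹ᵁ V ≤ ⊤ from le_top) (dom_le chart _ V hV _), hσ]
      exact hfd
  let D := CohB1.genLocus O1 σ
  have hmemD : ∀ (V : t) (x : W), g x ∈ V.1.1 → r x ∈ dom chart (Groth.L18.SymSheaf.j F) V.1.1 V.1.2 (rs F le_top e1) :=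
    fun V x hxV => hs.mem hF.1 hj hO1 hφ V.1.2 _ (V := g ⁻¹ᵁ V.1.1) le_rfl
      (by rw [hone]; exact hfr1 _) hxV
  have hrD : Set.range r ⊆ Set.range D.ι := by
    rw [Scheme.Opens.range_ι]
    rintro _ ⟨x, rfl⟩
    obtain ⟨V, hxV⟩ := hcov x
    have h := hmemD V x hxV
    rw [← hdom] at h
    exact h.1
  let m' := IsOpenImmersion.lift D.ι r hrD
  have hm' : m' ≫ D.ι = r := IsOpenImmersion.lift_fac _ _ _
  haveI : IsPreimmersion (m' ≫ D.ι) := by rw [hm']; infer_instance
  haveI : IsPreimmersion m' := IsPreimmersion.of_comp m' D.ι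
  haveI : IsClosedImmersion m' := by
    refine IsClosedImmersion.of_isPreimmersion m' (isOpen_compl_iff.1 (isOpen_iff_forall_mem_open.2 fun z hz => ?_))
    obtain ⟨V, hV, hzV⟩ := Set.mem_iUnion₂.1 (ht (Set.mem_univ (p (D.ι z))))
    let G := dom chart (Groth.L18.SymSheaf.j F) V.1 V.2 (rs F le_top e1)
    have hzG : D.ι z ∈ G := by
      show D.ι z ∈ dom chart (Groth.L18.SymSheaf.j F) V.1 V.2 (rs F le_top e1)
      rw [← hdom]
      exact ⟨z.2, hzV⟩
    have hpre : r ⁻¹ᵁ G = g ⁻¹ᵁ V.1 := by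
      refine le_antisymm (fun x hx => ?_) fun x hx => hmemD ⟨V, hV⟩ x hx
      have h := dom_le chart _ V.1 V.2 _ hx
      show g x ∈ V.1
      rw [← hr, Scheme.Hom.comp_apply]
      exact h
    haveI := isClosedImmersion_restrict_of_appLE r (isAffineOpen_dom chart hj V.2 (rs F le_top e1)) (V.2.preimage g) hpre (by
      rw [← RingHom.range_eq_top]
      refine hc ⟨V, hV⟩ _ (fun a => ⟨p.appLE V.1 G (dom_le chart _ V.1 V.2 _) a, ?_⟩) fun k => ?_
      · refine (ConcreteCategory.congr_hom (Scheme.Hom.appLE_comp_appLE r p V.1 G (g ⁻¹ᵁ V.1)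
          (dom_le chart _ V.1 V.2 _) hpre.ge) a).trans ?_
        simp only [hr]
      · obtain ⟨ek, hek⟩ : ∃ e : Γ(F, V.1), ι.app V.1 e =
            (show Γ((Scheme.Modules.pushforward g).obj L, V.1) from c ⟨V, hV⟩ k) :=
          hmem (some ⟨V, hV⟩) (Finset.mem_univ _) ⟨k⟩
        refine ⟨fn chart V.2 (rs F le_top e1) (frac hj V.2 _ ek), ?_⟩
        have h := hs.coeff hj hO1 hφ V.2 (rs F le_top e1) ek (V := g ⁻¹ᵁ V.1) hpre.ge le_rfl _
          (fn_frac_smul hj hO1 hφ V.2 _ ek)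
        rw [hone, rs_self, hek] at h
        exact (mul_one _).symm.trans h)
    let C := (Set.range (r ∣_ G))ᶜ
    have hC : IsOpen C := (r ∣_ G).isClosedEmbedding.isClosed_range.isOpen_compl
    refine ⟨D.ι ⁻¹' (G.ι '' C), fun w hw hwr => ?_,
      (G.ι.isOpenEmbedding.isOpenMap _ hC).preimage D.ι.continuous, ⟨⟨_, hzG⟩, fun hzr => hz ?_, rfl⟩⟩
    · obtain ⟨x, rfl⟩ := hwr
      obtain ⟨w', hw', he⟩ := hw
      refine hw' ⟨⟨x, ?_⟩, Subtype.ext ((morphismRestrict_base_coe r G _).trans ?_)⟩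
      · show r x ∈ G
        rw [← hm', Scheme.Hom.comp_apply, ← he]
        exact w'.2
      · show r x = w'.1
        rw [← hm', Scheme.Hom.comp_apply, ← he]
        rfl
    · obtain ⟨x, hx⟩ := hzr
      refine ⟨x.1, D.ι.isOpenEmbedding.injective ?_⟩
      rw [← Scheme.Hom.comp_apply, hm']
      exact ((morphismRestrict_base_coe r G x).symm.trans (congrArg Subtype.val hx))
  obtain ⟨hoi, hrange⟩ := Groth.L13.Nagata.toImage_openImmersion r D m' hm'
  haveI : IsSchemeTheoreticallyDominant r.toImage := Groth.L02.STD.toImage_dominant r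
  have hinv : PicF.IsInvertible O1 := by
    have h := Groth.L18.PBundle.isRelAmple_pullback hgd hO1 p (𝟙 P) (Category.id_comp p) Topology.IsInducing.id
    exact Groth.L18.Ample.isInvertible_of_iso ((Scheme.Modules.pullbackId P).app O1)
      (Groth.L19.YBlowUp.isInvertible_of_isRelAmple h)
  refine ⟨r.image, r.imageι ≫ p, _, Groth.L18.Ample.pullHom r.imageι σ, r.toImage, hoi, inferInstance, ?_,
    Groth.L18.PBundle.isRelAmple_pullback hgd hO1 (r.imageι ≫ p) r.imageι rfl r.imageι.isEmbedding.isInducing,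
    inferInstance, ?_, ?_⟩
  · exact Groth.L18.VanishI.isProjective_comp_closedImmersion r.imageι p hproj
  · rw [hrange, Groth.L18.Ample.genLocus_pullHom _ hinv]
  · rw [r.toImage_imageι_assoc, hr]

end Groth.L13.YBlow
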