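import Groth.Agent.L13.BlowP1.Embed
import Groth.Agent.L13.BlowUp.Proper
import Groth.Agent.L13.PairBlow.Descend
import Groth.Agent.L22.VeryAmple.Over
import Groth.Agent.L18.RelAmpleOps
import Groth.Agent.L11.BlowProj.Charts

/-!
# The exceptional ideal of a blow-up is relatively ample
-/

set_option autoImplicit false
set_option linter.style.haveILetI false
set_option backward.isDefEq.respectTransparency false
set_option backward.isDefEq.respectTransparency.types false

universe u

open CategoryTheory CategoryTheory.Limits AlgebraicGeometry TopologicalSpace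
open Groth.L13.BU Groth.L11.BlowSmooth

noncomputable section

namespace Groth.L13.YBlow

/-- The exceptional ideal of a blow-up in an ideal of finite type is ample relative to the blow-up. -/
theorem isRelAmple_exceptional {P P' : Scheme.{u}} {b : P' ⟶ P} {J : P.IdealSheafData}
    (hb : BlowUp.IsBlowUp b J) (hJ : BlowUp.IsFiniteTypeIdeal J) :
    RelAmple.IsRelAmple b (ClSub.idealMod (J.comap b)) := by
  haveI := isProper_blowUp hb hJ
  refine Groth.L18.Ample.isRelAmple_of_local b fun y => ?_
  obtain ⟨V, hV, hyV, -⟩ := Groth.L18.Ample.exists_affine_le (Opens.mem_top y)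
  refine ⟨V, hV, hyV, ?_⟩
  obtain ⟨n, f₀, hf₀⟩ := Submodule.fg_iff_exists_fin_generating_family.1 (hJ ⟨V, hV⟩)
  let f : Fin (n + 1) → Γ(P, V) := Fin.cons 0 f₀
  have hf : sI f = J.ideal ⟨V, hV⟩ := by
    refine le_antisymm (Ideal.span_le.2 ?_) (hf₀ ▸ Ideal.span_mono ?_)
    · rintro _ ⟨i, rfl⟩
      refine Fin.cases ?_ (fun i => ?_) i
      · exact Ideal.zero_mem _
      · simp only [f, Fin.cons_succ]
        exact hf₀.le (Submodule.subset_span ⟨i, rfl⟩)
    · rintro _ ⟨i, rfl⟩
      exact ⟨i.succ, by simp [f]⟩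
  let q := pullback.fst hV.fromSpec b
  let s := pullback.snd hV.fromSpec b
  have hq : BlowUp.IsBlowUp q (idealOf (sI f)) := by
    rw [hf, ← comap_fromSpec J ⟨V, hV⟩]
    exact isBlowUp_pullback hV.fromSpec hb
  obtain ⟨r, hr, -, ⟨e⟩⟩ := Groth.L13.BlowP1.exists_embed f q hq
  haveI : IsProper q := MorphismProperty.pullback_fst _ _ inferInstance
  haveI : CompactSpace ↥(pullback hV.fromSpec b) := QuasiCompact.compactSpace_of_compactSpace q
  have hex : Groth.L13.BlowP1.exIdeal f q = (J.comap b).comap s := by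
    rw [Groth.L13.BlowP1.exIdeal, hf, ← comap_fromSpec J ⟨V, hV⟩, ← Scheme.IdealSheafData.comap_comp,
      ← Scheme.IdealSheafData.comap_comp, pullback.condition]
  haveI : IsOpenImmersion s := MorphismProperty.pullback_snd _ _ inferInstance
  obtain ⟨e'⟩ := Groth.L13.PairBlow.nonempty_restrict_idealMod s (J.comap b)
  have hA : CohB1.IsAmple ((Scheme.Modules.pullback s).obj (ClSub.idealMod (J.comap b))) := by
    refine Groth.L18.Ample.isAmple_of_iso (e ≪≫ eqToIso (congrArg ClSub.idealMod hex) ≪≫ e'.symm ≪≫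
      (Scheme.Modules.restrictFunctorIsoPullback s).app _)
      (Groth.L18.Ample.isAmple_pullback_of_isInducing r r.isEmbedding.isInducing
        (Groth.L22.VeryAmple.isAmple_O1 n Γ(P, V)))
  refine (Groth.L18.Ample.isAmple_restrict_iff_pullback _).2 ?_
  have hs : s.opensRange = b ⁻¹ᵁ V := by
    refine Opens.ext ?_
    show Set.range s = b ⁻¹' (V : Set P)
    rw [Scheme.Pullback.range_snd, hV.range_fromSpec]
  refine (Groth.L18.Ample.isAmple_pullback_congr
    (s.isoOpensRange ≪≫ P'.isoOfEq hs) (b ⁻¹ᵁ V).ι s ?_).1 hA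
  simp

end Groth.L13.YBlow
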