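import Groth.Agent.L13.YBlow.ExcAmple
import Groth.Agent.L13.YBlow.LiftSec
import Groth.Agent.L13.YBlow.Completion
import Groth.Agent.L13.Nagata.Piece
import Groth.Agent.L13.Nagata.Chow
import Groth.Agent.L13.Nagata.CommonMany
import Groth.Agent.L13.Nagata.Modification
import Groth.Agent.L20.StrictSep
import Groth.Agent.L26.Elliptic.ZeroComap
import Groth.Agent.L19.Approx.Affine
import Groth.Agent.L19.Approx.Factor
import Groth.Agent.L19.Approx.Embed
import Groth.Agent.L07.BlowLib.Dense

/-!
# Projective models with affine interior dominating a proper morphism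
-/

set_option autoImplicit false
set_option linter.style.haveILetI false
set_option backward.isDefEq.respectTransparency false
set_option backward.isDefEq.respectTransparency.types false

universe u

open CategoryTheory CategoryTheory.Limits AlgebraicGeometry TopologicalSpace

noncomputable section

namespace Groth.L13.YBlow

/-- A morphism to a scheme locally of finite type factors, schematically dominantly, through an affine
scheme of finite type over the base. -/
theorem exists_factor {X Y X' : Scheme.{u}} (f : Y ⟶ X) [IsAffineHom f] [CompactSpace X] [QuasiSeparatedSpace X]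
    (f' : Y ⟶ X') (g' : X' ⟶ X) [LocallyOfFiniteType g'] [QuasiCompact g'] [QuasiSeparated g']
    (h : f' ≫ g' = f) :
    ∃ (W : Scheme.{u}) (v : Y ⟶ W) (d : W ⟶ X'), IsAffineHom (d ≫ g') ∧ LocallyOfFiniteType (d ≫ g') ∧
      IsSchemeTheoreticallyDominant v ∧ QuasiCompact v ∧ v ≫ d = f' := by
  haveI : CompactSpace X' := QuasiCompact.compactSpace_of_compactSpace g'
  haveI : QuasiSeparatedSpace X' := quasiSeparatedSpace_of_quasiSeparated g'
  obtain ⟨Z, γ, ι, hγ, hZc, hZq, hι, hιγ⟩ := Groth.L19.Approx.embeds_of_locallyOfFiniteType g'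
  have hcof : Groth.L19.Approx.Cofinal f (⊤ : MorphismProperty Scheme.{u}) := fun {_} =>
    Groth.L19.Approx.cofinal_top f
  haveI := Groth.L19.Approx.isDirected_idx hcof
  haveI := Groth.L19.Approx.nonempty_idx hcof
  let D := Groth.L19.Approx.system f (⊤ : MorphismProperty Scheme.{u}) ⋙ Over.forget X
  let c : Cone D := (Over.forget X).mapCone (Groth.L19.Approx.cone f ⊤)
  haveI : IsConnected (Groth.L19.Approx.Idx f (⊤ : MorphismProperty Scheme.{u}))ᵒᵖ := IsCofiltered.isConnected _
  have hc : IsLimit c := isLimitOfPreserves (Over.forget X) (Groth.L19.Approx.nonempty_isLimit_cone f ⊤ hcof).some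
  haveI : ∀ {i j} (φ : i ⟶ j), IsAffineHom (D.map φ) := fun φ => Groth.L19.Approx.isAffineHom_system_map f ⊤ φ
  let str : ∀ i, D.obj i ⟶ X := fun i => ((Groth.L19.Approx.system f (⊤ : MorphismProperty Scheme.{u})).obj i).hom
  haveI : ∀ i, IsAffineHom (str i) := fun i => Groth.L19.Approx.isAffineHom_system_hom f ⊤ i
  haveI : ∀ i, LocallyOfFinitePresentation (str i) := fun i => Groth.L19.Approx.lfp_system_hom f ⊤ i
  haveI : ∀ i, CompactSpace (D.obj i) := fun i => QuasiCompact.compactSpace_of_compactSpace (str i)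
  haveI : ∀ i, QuasiSeparatedSpace (D.obj i) := fun i => quasiSeparatedSpace_of_quasiSeparated (str i)
  let t : D ⟶ (Functor.const _).obj X :=
    { app := str, naturality := fun i j φ =>
        (Groth.L19.Approx.hom_transition f ⊤ φ).trans (Category.comp_id (str i)).symm }
  have ha : c.π ≫ t = (Functor.const _).map ((show c.pt ⟶ Z from f' ≫ ι) ≫ γ) := by
    ext i
    show c.π.app i ≫ str i = (f' ≫ ι) ≫ γ
    rw [Category.assoc, hιγ, h]
    exact Over.w ((Groth.L19.Approx.cone f (⊤ : MorphismProperty Scheme.{u})).π.app i)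
  obtain ⟨i, k, hk, hkγ⟩ := Scheme.exists_π_app_comp_eq_of_locallyOfFinitePresentation D t γ c hc _ ha
  let v₀ : Y ⟶ D.obj i := c.π.app i
  have hv₀ : v₀ ≫ str i = f := Over.w ((Groth.L19.Approx.cone f (⊤ : MorphismProperty Scheme.{u})).π.app i)
  haveI : QuasiCompact (v₀ ≫ str i) := by rw [hv₀]; infer_instance
  haveI : QuasiCompact v₀ := QuasiCompact.of_comp v₀ (str i)
  haveI : IsSchemeTheoreticallyDominant v₀.toImage := Groth.L02.STD.toImage_dominant v₀
  have hk' : v₀ ≫ k = f' ≫ ι := hk
  have hker : ι.ker ≤ (v₀.imageι ≫ k).ker := by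
    have h1 : (v₀.toImage ≫ v₀.imageι ≫ k).ker = (v₀.imageι ≫ k).ker := by
      rw [← Scheme.IdealSheafData.map_ker, v₀.toImage.ker_eq_bot, Scheme.IdealSheafData.map_bot]
    rw [← h1, v₀.toImage_imageι_assoc, hk']
    exact Scheme.Hom.le_ker_comp f' ι
  let d : v₀.image ⟶ X' := IsClosedImmersion.lift ι (v₀.imageι ≫ k) hker
  have hd : d ≫ ι = v₀.imageι ≫ k := IsClosedImmersion.lift_fac _ _ _
  have hdg : d ≫ g' = v₀.imageι ≫ str i := by
    rw [← hιγ, reassoc_of% hd]
    exact congrArg (v₀.imageι ≫ ·) hkγ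
  refine ⟨v₀.image, v₀.toImage, d, by rw [hdg]; infer_instance, by rw [hdg]; infer_instance, inferInstance,
    inferInstance, ?_⟩
  rw [← cancel_mono ι, Category.assoc, hd, v₀.toImage_imageι_assoc, hk']

/-- Blowing up inside the boundary keeps an ample module with a section cutting out the boundary. -/
theorem exists_ample_section_blowUp {P P' X : Scheme.{u}} [CompactSpace X] [QuasiSeparatedSpace X] (qP : P ⟶ X)
    [IsProper qP] {M : P.Modules} (hM : RelAmple.IsRelAmple qP M) (ε : Coh.structureModule P ⟶ M) {b : P' ⟶ P}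
    {J : P.IdealSheafData} (hb : BlowUp.IsBlowUp b J) (hJ : BlowUp.IsFiniteTypeIdeal J)
    (hJs : Disjoint (J.support : Set P) (CohB1.genLocus M ε : Set P)) :
    ∃ (M' : P'.Modules) (σ : Coh.structureModule P' ⟶ M'),
      RelAmple.IsRelAmple (b ≫ qP) M' ∧ CohB1.genLocus M' σ = b ⁻¹ᵁ CohB1.genLocus M ε := by
  haveI : CompactSpace P := QuasiCompact.compactSpace_of_compactSpace qP
  haveI := Groth.L13.BU.isProper_blowUp hb hJ
  have hMi := Groth.L19.YBlowUp.isInvertible_of_isRelAmple hM
  have hE : BlowUp.IsEffCartierIdeal (J.comap b) := hb.1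
  obtain ⟨m, hm⟩ := Groth.L20.StrictSep.exists_pow_le (J := PicF2.zeroScheme M ε)
    (fun V => Groth.L13.YBlow.zeroScheme_fg hMi ε V) (B := J) (by
      rw [Groth.L22.ZeroScheme.support_zeroScheme hMi]
      exact hJs.subset_compl_right)
  obtain ⟨n₀, -, hn₀⟩ := Groth.L18.Ample.exists_forall_isRelAmple_comp b qP (isRelAmple_exceptional hb hJ) hM
  let n := n₀ + (m + 1)
  obtain ⟨s, hs, -, hsz⟩ := exists_powSec hMi ε n
  have hPn := Groth.L18.Ample.isInvertible_tensorPow hMi n
  have hle : PicF2.zeroScheme _ (Groth.L18.Ample.pullHom b s) ≤ J.comap b := by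
    rw [← Groth.Agent.Elliptic.zeroScheme_comap b hPn s]
    refine Scheme.IdealSheafData.comap_mono _ (hsz.trans (le_trans (fun V => ?_) hm))
    rw [Scheme.IdealSheafData.ideal_pow, Scheme.IdealSheafData.ideal_pow]
    exact Ideal.pow_le_pow_right (by omega)
  obtain ⟨σ, hσ⟩ := exists_lift_section hE (Groth.L18.Ample.isInvertible_pullback b hPn) _ hle
  have hEi := (Groth.Agent.L19.IdealInvertible.isEffCartier_iff _).2 hE
  have hPi := Groth.L18.Ample.isInvertible_pullback b hMi
  have hT := Groth.L18.GenLoc.isInvertible_tensor hEi (Groth.L18.Ample.isInvertible_pullback b hPn)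
  let iso := Groth.L00.Tensor.tensorAssoc (ClSub.idealMod (J.comap b))
      ((Scheme.Modules.pullback b).obj (CohB1.tensorPow M n)) ((Scheme.Modules.pullback b).obj M) ≪≫
    Groth.L00.Tensor.tensorIso (Iso.refl _) (Groth.L29.DC.PullTensor.pullTensor b (CohB1.tensorPow M n) M)
  refine ⟨_, Groth.L18.GenLoc.tensHom σ (Groth.L18.Ample.pullHom b ε) ≫ iso.hom, hn₀ (n + 1) (by omega), ?_⟩
  refine (Groth.L16.genLocus_comp_iso _ iso).trans ?_
  rw [Groth.L18.GenLoc.genLocus_tensHom hT hPi, Groth.L18.Ample.genLocus_pullHom b hMi]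
  refine le_antisymm inf_le_right (le_inf (le_trans ?_ hσ) le_rfl)
  rw [Groth.L18.Ample.genLocus_pullHom b hPn]
  exact b.preimage_mono hs

/-- An affine scheme of finite type over `X` has a projective model, with boundary the zero locus of a
section of a relatively ample module, which maps to a given proper `X`-scheme. -/
theorem exists_model {W X X' : Scheme.{u}} [CompactSpace X] [QuasiSeparatedSpace X] (g' : X' ⟶ X) [IsProper g']
    (d : W ⟶ X') [IsAffineHom (d ≫ g')] [LocallyOfFiniteType (d ≫ g')] :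
    ∃ (Y : Scheme.{u}) (q : Y ⟶ X) (d₁ : Y ⟶ X') (e : W ⟶ Y) (_ : IsOpenImmersion e)
      (M : Y.Modules) (σ : Coh.structureModule Y ⟶ M),
      IsProper q ∧ RelProj.IsProjective q ∧ d₁ ≫ g' = q ∧ e ≫ d₁ = d ∧ IsSchemeTheoreticallyDominant e ∧
      QuasiCompact e ∧ RelAmple.IsRelAmple q M ∧ CohB1.genLocus M σ = e.opensRange := by
  haveI : CompactSpace W := QuasiCompact.compactSpace_of_compactSpace (d ≫ g')
  obtain ⟨P, qP, M, ε, v, _, hqP, hqPp, hM, hvd, hv, hvq⟩ := exists_completion (d ≫ g')
  haveI := hqP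
  haveI : CompactSpace P := QuasiCompact.compactSpace_of_compactSpace qP
  haveI : QuasiSeparatedSpace P := quasiSeparatedSpace_of_quasiSeparated qP
  obtain ⟨T, i, t, hi, ht, -, -, htv, htd, htr, htiso⟩ :=
    Groth.L13.Nagata.exists_graphClosure qP g' v d hvq
  let π := i ≫ pullback.fst qP g'
  haveI : IsProper (pullback.fst qP g') := MorphismProperty.pullback_fst _ _ inferInstance
  haveI : IsProper π := inferInstanceAs (IsProper (i ≫ pullback.fst qP g'))
  haveI : IsIso (π ∣_ v.opensRange) := htiso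
  obtain ⟨J, P', T', b, c, h, hb, hc, hJ, hJs, hh, hhb⟩ :=
    Groth.L13.Nagata.exists_isIso_blowUps π v.opensRange (isCompact_range v.continuous)
  haveI := Groth.L13.BU.isProper_blowUp hb hJ.1
  have hdc : Disjoint ((J.comap π).support : Set T) (t.opensRange : Set T) := by
    refine Set.disjoint_left.2 fun y hy ⟨w, hw⟩ => ?_
    rw [Scheme.IdealSheafData.support_comap] at hy
    refine Set.disjoint_left.1 hJ.2 hy ⟨w, ?_⟩
    rw [← hw, ← Scheme.Hom.comp_apply, show t ≫ π = v from htv]
  obtain ⟨t', ht', ht'o, -⟩ := Groth.L13.Nagata.exists_openImmersion_lift t hc hdc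
  let e := t' ≫ h
  haveI : IsOpenImmersion e := inferInstanceAs (IsOpenImmersion (t' ≫ h))
  have heb : e ≫ b = v := by rw [Category.assoc, hhb, reassoc_of% ht', show t ≫ π = v from htv]
  have hevd : Disjoint (J.support : Set P) (v.opensRange : Set P) := hJ.2
  have her : e.opensRange = b ⁻¹ᵁ v.opensRange :=
    TopologicalSpace.Opens.ext (Groth.L13.Nagata.lift_openImmersion hb v hevd e heb).2.symm
  haveI : IsSchemeTheoreticallyDominant (b ⁻¹ᵁ v.opensRange).ι := by
    have h' := Groth.L07.BlowLib.schDominant_compl hb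
    have e' : J.support.compl = v.opensRange :=
      TopologicalSpace.Opens.ext (show (J.support : Set P)ᶜ = (v.opensRange : Set P) by rw [hJs, compl_compl])
    rwa [e'] at h'
  haveI : IsSchemeTheoreticallyDominant e := by
    have : e = e.isoOpensRange.hom ≫ (P'.isoOfEq her).hom ≫ (b ⁻¹ᵁ v.opensRange).ι := by simp
    rw [this]; infer_instance
  have heq : QuasiCompact e := by
    haveI : QuasiCompact (e ≫ b ≫ qP) := by rw [reassoc_of% heb, hvq]; infer_instance
    exact QuasiCompact.of_comp e (b ≫ qP)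
  have hd₁ : (inv h ≫ c ≫ i ≫ pullback.snd qP g') ≫ g' = b ≫ qP := by
    simp only [Category.assoc]
    rw [← pullback.condition, ← cancel_epi h, IsIso.hom_inv_id_assoc, reassoc_of% hhb]
    rfl
  have hd₂ : e ≫ inv h ≫ c ≫ i ≫ pullback.snd qP g' = d := by
    simp only [e, Category.assoc, IsIso.hom_inv_id_assoc, reassoc_of% ht']
    exact htd
  -- the ample module and its section
  obtain ⟨M', σ, hM', hσ⟩ := exists_ample_section_blowUp qP hM ε hb hJ.1 (hv ▸ hJ.2)
  refine ⟨P', b ≫ qP, inv h ≫ c ≫ i ≫ pullback.snd qP g', e, inferInstance, M', σ, inferInstance, ?_, hd₁, hd₂,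
    inferInstance, heq, hM', ?_⟩
  · exact Groth.L13.Nagata.isProjective_comp b qP (Groth.L06.BlowProj.isProjective_of_isBlowUp J hJ.1 b hb) hqPp
  · rw [hσ, her, hv]

end Groth.L13.YBlow
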